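import Mathlib

/-!
# Cartier–Manin matrices under translation
-/

open Polynomial

namespace Groth.Agent.CartierManin

universe u

variable {k : Type u} [CommRing k] (p : ℕ) [Fact p.Prime] [CharP k p] {g : ℕ}

theorem coeff_taylor_eq_sum {F : k[X]} {α : k} {N n : ℕ} (hN : F.natDegree < N) :
    (taylor α F).coeff n = ∑ l ∈ Finset.range N, F.coeff l * ((l.choose n : ℕ) : k) * α ^ (l - n) := by
  conv_lhs => rw [F.as_sum_range' N hN]
  rw [map_sum, finset_sum_coeff]
  refine Finset.sum_congr rfl fun l _ => ?_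
  rw [taylor_apply, monomial_comp, coeff_C_mul, coeff_X_add_C_pow]
  ring

theorem cast_choose_eq {a b : ℕ} : ((a.choose b : ℕ) : k) =
    (((a % p).choose (b % p) : ℕ) : k) * (((a / p).choose (b / p) : ℕ) : k) := by
  rw [← Nat.cast_mul]
  exact (CharP.natCast_eq_natCast k p).2 Choose.choose_modEq_choose_mod_mul_choose_div_nat

theorem translate_eq (hg : g ≤ p) (F : k[X]) (hF : F.natDegree ≤ (g + 1) * (p - 1)) (α : k) :
    (Matrix.of fun i j : Fin g => (taylor α F).coeff (((i : ℕ) + 1) * p - ((j : ℕ) + 1))) =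
      (Matrix.of fun i I : Fin g => (((I : ℕ).choose (i : ℕ) : ℕ) : k) * α ^ (((I : ℕ) - (i : ℕ)) * p)) *
        (Matrix.of fun i j : Fin g => F.coeff (((i : ℕ) + 1) * p - ((j : ℕ) + 1))) *
        (Matrix.of fun J j : Fin g => (((p - ((J : ℕ) + 1)).choose (p - ((j : ℕ) + 1)) : ℕ) : k) *
          α ^ ((j : ℕ) - (J : ℕ))) := by
  classical
  have hp : 0 < p := (Fact.out : p.Prime).pos
  ext i j
  have hi := i.2
  have hj := j.2
  set n := ((i : ℕ) + 1) * p - ((j : ℕ) + 1) with hn
  have hn' : n = (i : ℕ) * p + (p - ((j : ℕ) + 1)) := by rw [hn, Nat.add_mul, one_mul]; omega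
  have hnp : n % p = p - ((j : ℕ) + 1) := by
    rw [hn', Nat.mul_comm, Nat.mul_add_mod]; exact Nat.mod_eq_of_lt (by omega)
  have hnd : n / p = i := by
    rw [hn', Nat.mul_comm, Nat.mul_add_div hp, Nat.div_eq_of_lt (by omega), add_zero]
  simp only [Matrix.of_apply, Matrix.mul_apply, Finset.sum_mul]
  rw [coeff_taylor_eq_sum (N := (g + 1) * p) (lt_of_le_of_lt hF (Nat.mul_lt_mul_of_pos_left (by omega) (by omega))),
    Finset.sum_comm, ← Fintype.sum_prod_type']
  let φ : Fin g × Fin g → ℕ := fun x => ((x.1 : ℕ) + 1) * p - ((x.2 : ℕ) + 1)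
  have hφ : ∀ x : Fin g × Fin g, φ x = (x.1 : ℕ) * p + (p - ((x.2 : ℕ) + 1)) := fun x => by
    have := x.2.2
    simp only [φ, Nat.add_mul, one_mul]; omega
  have hmod : ∀ x : Fin g × Fin g, φ x % p = p - ((x.2 : ℕ) + 1) ∧ φ x / p = x.1 := fun x => by
    have := x.2.2
    constructor
    · rw [hφ, Nat.mul_comm, Nat.mul_add_mod]; exact Nat.mod_eq_of_lt (by omega)
    · rw [hφ, Nat.mul_comm, Nat.mul_add_div hp, Nat.div_eq_of_lt (by omega), add_zero]
  symm
  refine Finset.sum_of_injOn φ ?_ ?_ ?_ ?_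
  · intro x _ y _ h
    have h1 := (hmod x).1
    have h2 := (hmod x).2
    rw [h, (hmod y).1] at h1
    rw [h, (hmod y).2] at h2
    have := x.2.2
    have := y.2.2
    exact Prod.ext (Fin.ext h2.symm) (Fin.ext (by omega))
  · intro x _
    have := x.1.2
    have := x.2.2
    simp only [Finset.coe_range, Set.mem_Iio, φ]
    calc _ ≤ ((x.1 : ℕ) + 1) * p := Nat.sub_le _ _
      _ < (g + 1) * p := Nat.mul_lt_mul_of_pos_right (by omega) hp
  · intro l hl hnot
    rw [Finset.mem_range] at hl
    by_cases hd : l ≤ (g + 1) * (p - 1)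
    · suffices h : ((l.choose n : ℕ) : k) = 0 by rw [h, mul_zero, zero_mul]
      rw [cast_choose_eq p, hnp, hnd]
      have hlt : l % p < p - ((j : ℕ) + 1) := by
        by_contra hge
        push Not at hge
        have ha : l / p ≤ g := Nat.lt_succ_iff.1 ((Nat.div_lt_iff_lt_mul hp).2 hl)
        have hr : l % p < p := Nat.mod_lt l hp
        have hdm := Nat.div_add_mod l p
        rcases Nat.lt_or_ge (l / p) g with hag | hag
        · refine hnot ⟨(⟨l / p, hag⟩, ⟨p - 1 - l % p, by omega⟩), by simp, ?_⟩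
          show φ _ = l
          rw [hφ]
          simp only [Nat.mul_comm (l / p) p]
          omega
        · have e : l / p = g := le_antisymm ha hag
          rw [e] at hdm
          have e2 : (g + 1) * (p - 1) = p * g + p - (g + 1) := by
            rw [Nat.mul_sub, Nat.mul_one, Nat.add_mul, one_mul, Nat.mul_comm g p]
          rw [e2] at hd
          have := Nat.le_mul_of_pos_right p (show 0 < g by omega)
          omega
      rw [Nat.choose_eq_zero_of_lt hlt, Nat.cast_zero, zero_mul]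
    · rw [coeff_eq_zero_of_natDegree_lt (lt_of_le_of_lt hF (not_le.1 hd)), zero_mul, zero_mul]
  · rintro ⟨I, J⟩ _
    have hJ := J.2
    rw [cast_choose_eq p (a := φ (I, J)), hnp, hnd, (hmod _).1, (hmod _).2]
    show _ = F.coeff (φ (I, J)) * _ * α ^ (φ (I, J) - n)
    by_cases hIi : (i : ℕ) ≤ I
    · by_cases hJj : (J : ℕ) ≤ j
      · have e : φ (I, J) - n = ((I : ℕ) - i) * p + ((j : ℕ) - J) := by
          rw [hφ, hn', Nat.sub_mul]
          have := Nat.mul_le_mul_right p hIi
          simp only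
          omega
        rw [e, pow_add]
        simp only [φ]
        ring
      · rw [Nat.choose_eq_zero_of_lt (n := p - ((J : ℕ) + 1)) (k := p - ((j : ℕ) + 1)) (by omega),
          Nat.cast_zero, zero_mul, mul_zero, zero_mul, mul_zero, zero_mul]
    · rw [Nat.choose_eq_zero_of_lt (n := (I : ℕ)) (k := (i : ℕ)) (by omega),
        Nat.cast_zero, zero_mul, zero_mul, zero_mul, mul_zero, mul_zero, zero_mul]

theorem det_translate (hg : g ≤ p) (F : k[X]) (hF : F.natDegree ≤ (g + 1) * (p - 1)) (α : k) :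
    (Matrix.of fun i j : Fin g => (taylor α F).coeff (((i : ℕ) + 1) * p - ((j : ℕ) + 1))).det =
      (Matrix.of fun i j : Fin g => F.coeff (((i : ℕ) + 1) * p - ((j : ℕ) + 1))).det := by
  rw [translate_eq p hg F hF α, Matrix.det_mul, Matrix.det_mul]
  have hL : (Matrix.of fun i I : Fin g =>
      (((I : ℕ).choose (i : ℕ) : ℕ) : k) * α ^ (((I : ℕ) - (i : ℕ)) * p)).IsUpperTriangular := by
    intro a b hab
    have hlt : (b : ℕ) < a := hab
    simp only [Matrix.of_apply]
    rw [Nat.choose_eq_zero_of_lt hlt, Nat.cast_zero, zero_mul]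
  have hU : (Matrix.of fun J j : Fin g => (((p - ((J : ℕ) + 1)).choose (p - ((j : ℕ) + 1)) : ℕ) : k) *
      α ^ ((j : ℕ) - (J : ℕ))).IsUpperTriangular := by
    intro a b hab
    have hlt : (b : ℕ) < a := hab
    simp only [Matrix.of_apply]
    rw [Nat.choose_eq_zero_of_lt (by have := a.2; omega), Nat.cast_zero, zero_mul]
  rw [Matrix.det_of_isUpperTriangular hL, Matrix.det_of_isUpperTriangular hU]
  simp

end Groth.Agent.CartierManin
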